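import Mathlib
import Cfsg.Prelude.Def_Solvable
import Cfsg.Agent.Lib.Transfer.Kazarin
import Cfsg.Agent.Lib.Grp.Cores
import Cfsg.Agent.Lib.Grp.Coprime

/-!
Tools for groups in which every element of `q`-power order has a class of prime-power size.
-/

set_option autoImplicit false
set_option linter.unusedSectionVars false
set_option linter.style.haveILetI false

open scoped Pointwise

namespace Cfsg.Agent.QBaer

open Cfsg

variable {G : Type*} [Group G] [Finite G]

/-- The size of the class of `x`. -/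
noncomputable abbrev cidx (x : G) : ℕ := (Subgroup.centralizer ({x} : Set G)).index

theorem cidx_ne_zero (x : G) : cidx x ≠ 0 := Subgroup.index_ne_zero_of_finite

theorem cidx_eq_one_iff {x : G} : cidx x = 1 ↔ ∀ g : G, Commute g x := by
  rw [cidx, Subgroup.index_eq_one, Subgroup.eq_top_iff']
  exact forall_congr' fun g => Subgroup.mem_centralizer_singleton_iff

theorem cidx_conj (g x : G) : cidx (g * x * g⁻¹) = cidx x := by
  have h : Subgroup.centralizer ({g * x * g⁻¹} : Set G) =
      (Subgroup.centralizer ({x} : Set G)).map (MulAut.conj g).toMonoidHom := by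
    ext c
    rw [Subgroup.mem_map_equiv, Subgroup.mem_centralizer_singleton_iff,
      Subgroup.mem_centralizer_singleton_iff]
    show c * (g * x * g⁻¹) = g * x * g⁻¹ * c ↔ g⁻¹ * c * g * x = x * (g⁻¹ * c * g)
    constructor <;> intro e
    · calc g⁻¹ * c * g * x = g⁻¹ * (c * (g * x * g⁻¹)) * g := by group
        _ = g⁻¹ * (g * x * g⁻¹ * c) * g := by rw [e]
        _ = x * (g⁻¹ * c * g) := by group
    · calc c * (g * x * g⁻¹) = g * (g⁻¹ * c * g * x) * g⁻¹ := by group
        _ = g * (x * (g⁻¹ * c * g)) * g⁻¹ := by rw [e]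
        _ = g * x * g⁻¹ * c := by group
  rw [cidx, cidx, h]
  exact Subgroup.index_map_of_bijective (f := (MulAut.conj g).toMonoidHom) (MulAut.conj g).bijective _

theorem cidx_map_dvd {D : Type*} [Group D] [Finite D] (f : G →* D) (hf : Function.Surjective f) (x : G) :
    cidx (f x) ∣ cidx x := by
  refine dvd_trans ?_ (Subgroup.index_map_dvd (Subgroup.centralizer ({x} : Set G)) hf)
  refine Subgroup.index_dvd_of_le ?_
  rintro _ ⟨c, hc, rfl⟩
  rw [SetLike.mem_coe, Subgroup.mem_centralizer_singleton_iff] at hc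
  rw [Subgroup.mem_centralizer_singleton_iff, ← map_mul, hc, map_mul]

theorem relIndex_centralizer_dvd (x : G) (N : Subgroup G) [N.Normal] :
    (Subgroup.centralizer ({x} : Set G)).relIndex N ∣ cidx x :=
  Transfer.Kazarin.relIndex_dvd_index _ N

/-- `g x g⁻¹ ≡ x` modulo a coprime normal subgroup centralized by `x` forces equality. -/
theorem cidx_quot_eq {q : ℕ} {R : Subgroup G} [R.Normal] {x : G} (hx : ∃ k, orderOf x = q ^ k)
    (hR : R ≤ Subgroup.centralizer ({x} : Set G)) (hcop : (Nat.card R).Coprime q) :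
    cidx (x : G ⧸ R) = cidx x := by
  have h : Subgroup.centralizer ({x} : Set G) =
      (Subgroup.centralizer ({(x : G ⧸ R)} : Set (G ⧸ R))).comap (QuotientGroup.mk' R) := by
    ext g
    rw [Subgroup.mem_comap, Subgroup.mem_centralizer_singleton_iff, Subgroup.mem_centralizer_singleton_iff,
      QuotientGroup.mk'_apply]
    constructor <;> intro e
    · rw [← QuotientGroup.mk_mul, e, QuotientGroup.mk_mul]
    · set w := x⁻¹ * (g * x * g⁻¹) with hw
      have hwR : w ∈ R := by
        rw [← QuotientGroup.eq_one_iff, hw, QuotientGroup.mk_mul, QuotientGroup.mk_mul, QuotientGroup.mk_mul,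
          QuotientGroup.mk_inv, QuotientGroup.mk_inv, e, mul_inv_cancel_right, inv_mul_cancel]
      have hc : Commute x w := (Subgroup.mem_centralizer_singleton_iff.mp (hR hwR) : w * x = x * w).symm
      obtain ⟨k, hk⟩ := hx
      have h1 : w ^ q ^ k = 1 := by
        have h2 : (g * x * g⁻¹) ^ q ^ k = 1 := by
          rw [conj_pow, ← hk, pow_orderOf_eq_one, mul_one, mul_inv_cancel]
        rw [show g * x * g⁻¹ = x * w by rw [hw, mul_inv_cancel_left], hc.mul_pow, ← hk, pow_orderOf_eq_one,
          one_mul, hk] at h2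
        exact h2
      have hw1 : w = 1 := by
        rw [← orderOf_eq_one_iff]
        exact Nat.eq_one_of_dvd_coprimes (hcop.pow_right k) (Subgroup.orderOf_dvd_natCard R hwR) (orderOf_dvd_of_pow_eq_one h1)
      rw [hw, inv_mul_eq_one] at hw1
      calc g * x = g * x * g⁻¹ * g := by group
        _ = x * g := by rw [← hw1]
  rw [cidx, cidx, h, Subgroup.index_comap_of_surjective _ (QuotientGroup.mk'_surjective R)]

theorem exists_pow_eq {q n : ℕ} (hn : n ≠ 0) (h : ∀ r : ℕ, r.Prime → r ∣ n → r = q) : ∃ k, n = q ^ k :=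
  ⟨_, Nat.eq_prime_pow_of_unique_prime_dvd hn (fun {r} hr hd => h r hr hd)⟩

theorem not_dvd_fitting {p : ℕ} [hp : Fact p.Prime] (hcore : pCore p G = ⊥) : ¬ p ∣ Nat.card (fittingSubgroup G) := by
  intro hd
  haveI := Grp.fittingSubgroup_isNormal (G := G)
  haveI := Grp.fittingSubgroup_isNilpotent (G := G)
  obtain ⟨P⟩ : Nonempty (Sylow p (fittingSubgroup G)) := inferInstance
  haveI hPn : (P : Subgroup (fittingSubgroup G)).Normal :=
    Grp.isNilpotent_iff_sylow_normal.1 inferInstance p inferInstance P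
  haveI := P.characteristic_of_normal hPn
  have h1 : (P : Subgroup (fittingSubgroup G)).map (fittingSubgroup G).subtype ≤ pCore p G :=
    Grp.le_pCore ConjAct.normal_of_characteristic_of_normal (P.isPGroup'.map _)
  rw [hcore, le_bot_iff, Subgroup.map_eq_bot_iff_of_injective _ (fittingSubgroup G).subtype_injective] at h1
  have h2 := P.card_eq_multiplicity
  rw [show Nat.card P = 1 from (congrArg (fun U : Subgroup (fittingSubgroup G) => Nat.card U) h1).trans Subgroup.card_bot]
    at h2
  exact absurd h2.symm (Nat.one_lt_pow ((hp.out.dvd_iff_one_le_factorization Nat.card_pos.ne').1 hd |>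
    Nat.one_le_iff_ne_zero.1) hp.out.one_lt).ne'

theorem fitting_le_pCore {q : ℕ} [Fact q.Prime] (hcore : ∀ r : ℕ, r.Prime → r ≠ q → pCore r G = ⊥) :
    fittingSubgroup G ≤ pCore q G := by
  obtain ⟨k, hk⟩ := exists_pow_eq (q := q) (Nat.card_pos (α := fittingSubgroup G)).ne' fun r hr hd => by
    by_contra hne
    haveI := Fact.mk hr
    exact not_dvd_fitting (hcore r hr hne) hd
  exact Grp.le_pCore Grp.fittingSubgroup_isNormal (IsPGroup.of_card hk)

/-- Two subgroups of coprime index factorize the group. -/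
theorem exists_mem_of_coprime_index {H K : Subgroup G} (h : H.index.Coprime K.index) (g : G) :
    ∃ c ∈ H, c⁻¹ * g ∈ K := by
  classical
  set O := MulAction.orbit H ((1 : G) : G ⧸ K) with hO
  have hstab : MulAction.stabilizer H ((1 : G) : G ⧸ K) = K.subgroupOf H := by
    ext s
    rw [MulAction.mem_stabilizer_iff, Subgroup.mem_subgroupOf]
    show ((((s : G) * 1 : G)) : G ⧸ K) = ((1 : G) : G ⧸ K) ↔ _
    rw [QuotientGroup.eq, mul_one, mul_one, inv_mem_iff]
  have hcard : O.ncard = K.relIndex H := by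
    rw [hO, ← MulAction.index_stabilizer, hstab]; rfl
  have hdvd : K.index ∣ K.relIndex H := by
    have h1 : K.relIndex H * H.index = (K ⊓ H).index := by
      rw [← Subgroup.inf_relIndex_right, Subgroup.relIndex_mul_index inf_le_right]
    have h2 : K.index ∣ (K ⊓ H).index := Subgroup.index_dvd_of_le inf_le_left
    rw [← h1] at h2
    exact h.symm.dvd_of_dvd_mul_right h2
  have huniv : O = Set.univ := by
    refine Set.eq_of_subset_of_ncard_le (Set.subset_univ _) ?_ (Set.toFinite _)
    rw [Set.ncard_univ, ← Subgroup.index_eq_card, hcard]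
    refine Nat.le_of_dvd (Nat.pos_of_ne_zero ?_) hdvd
    exact Subgroup.index_ne_zero_of_finite
  obtain ⟨s, hs⟩ : ((g : G) : G ⧸ K) ∈ O := huniv ▸ Set.mem_univ _
  refine ⟨s, s.2, ?_⟩
  have hs' : (((s : G) * 1 : G) : G ⧸ K) = ((g : G) : G ⧸ K) := hs
  rw [QuotientGroup.eq, mul_one] at hs'
  exact hs'

/-- An element whose class has `t`-power size centralizes the invariant Sylow subgroups for other primes of a
normal coprime subgroup. -/
theorem centralizes_sylow {q t r a : ℕ} [hq : Fact q.Prime] (ht : t.Prime) [hr : Fact r.Prime] (hrt : r ≠ t)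
    {R T : Subgroup G} [R.Normal] (hcop : (Nat.card R).Coprime q) {x : G} (hx : ∃ k, orderOf x = q ^ k)
    (hidx : cidx x = t ^ a) (hT : Grp.IsSylowIn r T R) (hinv : x ∈ Subgroup.normalizer (T : Set G)) :
    T ≤ Subgroup.centralizer ({x} : Set G) := by
  set C := Subgroup.centralizer ({x} : Set G) with hC
  obtain ⟨X, hX⟩ := Grp.exists_isSylowIn r (C ⊓ R)
  have hXR : Grp.IsSylowIn r X R := by
    refine ⟨hX.1.trans inf_le_right, hX.2.1, ?_⟩
    rw [← Subgroup.relIndex_mul_relIndex X (C ⊓ R) R hX.1 inf_le_right, Subgroup.inf_relIndex_right]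
    intro hd
    rcases hr.out.dvd_mul.mp hd with h | h
    · exact hX.2.2 h
    · have h1 := h.trans (hidx ▸ relIndex_centralizer_dvd x R)
      exact hrt ((Nat.prime_dvd_prime_iff_eq hr.out ht).mp (hr.out.dvd_of_dvd_pow h1))
  have hcopA : (Nat.card (Subgroup.zpowers x)).Coprime (Nat.card R) := by
    obtain ⟨k, hk⟩ := hx
    rw [Nat.card_zpowers, hk]
    exact (hcop.pow_right k).symm
  haveI : Group.IsSolvable (Subgroup.zpowers x) := Group.isSolvable_of_comm fun a b => by
    obtain ⟨_, i, rfl⟩ := a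
    obtain ⟨_, j, rfl⟩ := b
    exact Subtype.ext (Commute.zpow_zpow_self x i j)
  have hXA : Subgroup.zpowers x ≤ Subgroup.normalizer (X : Set G) := by
    rw [Subgroup.zpowers_le]
    refine Subgroup.mem_normalizer_iff.mpr fun c => ?_
    have hcom : ∀ d ∈ X, Commute d x := fun d hd => Subgroup.mem_centralizer_singleton_iff.mp ((hX.1 hd).1)
    constructor
    · intro hc
      rwa [← (hcom c hc).eq, mul_inv_cancel_right]
    · intro hc
      have := hcom _ hc
      have hxe : c = x * c * x⁻¹ := by
        calc c = x⁻¹ * (x * c * x⁻¹ * x) := by group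
          _ = x⁻¹ * (x * (x * c * x⁻¹)) := by rw [this.eq]
          _ = x * c * x⁻¹ := by group
      rwa [hxe]
  obtain ⟨c, hc, hcT⟩ := Grp.invariant_sylow_conj (Subgroup.zpowers x) R
    (by rw [Subgroup.normalizer_eq_top]; exact le_top) hcopA (Or.inl inferInstance) hXR hT hXA
    (Subgroup.zpowers_le.mpr hinv)
  intro d hd
  rw [← hcT] at hd
  obtain ⟨e, he, rfl⟩ := hd
  have hcC : c ∈ C := Subgroup.mem_centralizer_singleton_iff.mpr
    ((Subgroup.mem_centralizer_iff.mp hc.2 x (Subgroup.mem_zpowers x)).symm)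
  show c * e * c⁻¹ ∈ C
  exact mul_mem (mul_mem hcC (hX.1 he).1) (inv_mem hcC)

end Cfsg.Agent.QBaer
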