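import Cfsg.Agent.Lib.Transfer.QBaer.Basic

/-!
The situation in a group with a normal Sylow `q`-subgroup containing all the relevant elements.
-/

set_option autoImplicit false
set_option linter.unusedSectionVars false
set_option linter.style.haveILetI false

open scoped Classical

namespace Cfsg.Agent.QBaer

variable {D : Type*} [Group D] [Finite D] {q : ℕ} [hq : Fact q.Prime]

/-- If the noncentral elements of a nonabelian normal Sylow subgroup have classes of `q`-power size then its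
centralizer has `q`-power index. -/
theorem centralizer_index_pow (U : Sylow q D) [hUn : (U : Subgroup D).Normal]
    (hU : ∃ u ∈ (U : Subgroup D), ∃ v ∈ (U : Subgroup D), ¬ Commute u v)
    (hpow : ∀ u ∈ (U : Subgroup D), (∃ v ∈ (U : Subgroup D), ¬ Commute u v) → ∃ b, cidx u = q ^ b) :
    ∃ k, (Subgroup.centralizer ((U : Subgroup D) : Set D)).index = q ^ k := by
  refine exists_pow_eq Subgroup.index_ne_zero_of_finite fun r hr hd => ?_
  by_contra hrq
  haveI := Fact.mk hr
  obtain ⟨S⟩ : Nonempty (Sylow r D) := inferInstance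
  suffices hSC : (S : Subgroup D) ≤ Subgroup.centralizer ((U : Subgroup D) : Set D) from
    S.not_dvd_index (hd.trans (Subgroup.index_dvd_of_le hSC))
  set F := (U : Subgroup D) ⊓ Subgroup.centralizer ((S : Subgroup D) : Set D) with hF
  set Z := (U : Subgroup D) ⊓ Subgroup.centralizer ((U : Subgroup D) : Set D) with hZ
  haveI : Z.Normal := by rw [hZ]; infer_instance
  have hmemZ : ∀ u ∈ (U : Subgroup D), u ∉ Z → ∃ v ∈ (U : Subgroup D), ¬ Commute u v := by
    intro u hu hz
    by_contra hall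
    push Not at hall
    exact hz ⟨hu, Subgroup.mem_centralizer_iff.mpr fun v hv => (hall v hv).symm.eq⟩
  have hconj : ∀ u ∈ (U : Subgroup D), u ∉ Z → ∃ s ∈ (U : Subgroup D), s * u * s⁻¹ ∈ F := by
    intro u hu hz
    obtain ⟨b, hb⟩ := hpow u hu (hmemZ u hu hz)
    set C := Subgroup.centralizer ({u} : Set D) with hC
    obtain ⟨S₁⟩ : Nonempty (Sylow r C) := inferInstance
    have hS₁ : ¬ r ∣ ((S₁ : Subgroup C).map C.subtype).index := by
      rw [Subgroup.index_map_subtype]
      intro h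
      rcases hr.dvd_mul.mp h with h | h
      · exact S₁.not_dvd_index h
      · rw [show C.index = q ^ b from hb] at h
        exact hrq ((Nat.prime_dvd_prime_iff_eq hr hq.out).mp (hr.dvd_of_dvd_pow h))
    let S₂ : Sylow r D := (S₁.isPGroup'.map C.subtype).toSylow hS₁
    obtain ⟨g, hg⟩ := MulAction.exists_smul_eq D S S₂
    obtain ⟨s, hs, hsg⟩ := Transfer.Kazarin.exists_sylow_mem C hb U g⁻¹
    refine ⟨s, hs, Subgroup.mem_inf.mpr ⟨mul_mem (mul_mem hs hu) (inv_mem hs), Subgroup.mem_centralizer_iff.mpr fun x hx => ?_⟩⟩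
    have h1 : g * x * g⁻¹ ∈ C := by
      have h2 : g * x * g⁻¹ ∈ (S₂ : Subgroup D) := by
        rw [← hg, Sylow.coe_subgroup_smul]
        exact Subgroup.smul_mem_pointwise_smul x (MulAut.conj g) _ hx
      obtain ⟨w, -, hw⟩ := h2
      exact hw ▸ w.2
    have h3 : (s⁻¹ * g⁻¹) * (g * x * g⁻¹) * (s⁻¹ * g⁻¹)⁻¹ ∈ C := mul_mem (mul_mem hsg h1) (inv_mem hsg)
    rw [show (s⁻¹ * g⁻¹) * (g * x * g⁻¹) * (s⁻¹ * g⁻¹)⁻¹ = s⁻¹ * x * s by group,
      Subgroup.mem_centralizer_singleton_iff] at h3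
    calc x * (s * u * s⁻¹) = s * (s⁻¹ * x * s * u) * s⁻¹ := by group
      _ = s * (u * (s⁻¹ * x * s)) * s⁻¹ := by rw [h3]
      _ = s * u * s⁻¹ * x := by group
  have hsup : (U : Subgroup D) ≤ F ⊔ Z := by
    set K := (F ⊔ Z).subgroupOf (U : Subgroup D) with hK
    by_contra hle
    have hKt : K ≠ ⊤ := fun h => hle (Subgroup.subgroupOf_eq_top.mp h)
    obtain ⟨M, hM, hKM⟩ := (eq_top_or_exists_le_coatom K).resolve_left hKt
    haveI := U.isPGroup'.isNilpotent
    haveI : M.Normal := Subgroup.NormalizerCondition.normal_of_coatom M Group.normalizerCondition_of_isNilpotent hM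
    refine hM.1 (top_unique fun u _ => ?_)
    by_cases hz : (u : D) ∈ Z
    · exact hKM (Subgroup.mem_subgroupOf.mpr (le_sup_right (a := F) hz))
    obtain ⟨s, hs, hsu⟩ := hconj u u.2 hz
    have h1 : (⟨s, hs⟩ : (U : Subgroup D)) * u * (⟨s, hs⟩ : (U : Subgroup D))⁻¹ ∈ M :=
      hKM (Subgroup.mem_subgroupOf.mpr (le_sup_left (b := Z) hsu))
    have h2 := Subgroup.Normal.conj_mem inferInstance _ h1 (⟨s, hs⟩ : (U : Subgroup D))⁻¹
    convert h2 using 1
    group
  obtain ⟨c, hcF, hcZ⟩ : ∃ c ∈ F, c ∉ Z := by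
    by_contra hall
    push Not at hall
    obtain ⟨u, hu, v, hv, huv⟩ := hU
    have : (U : Subgroup D) ≤ Z := hsup.trans (sup_le hall le_rfl)
    exact huv (Subgroup.mem_centralizer_iff.mp (this hu).2 v hv).symm
  have hZF : Z ≤ F := by
    intro z hz
    have hcz : c * z ∉ Z := fun h => hcZ (by simpa using mul_mem h (inv_mem hz))
    obtain ⟨s, hs, hsz⟩ := hconj _ (mul_mem hcF.1 hz.1) hcz
    obtain ⟨f, hf, w, hw, rfl⟩ : ∃ f ∈ F, ∃ w ∈ Z, f * w = s := by
      have h1 : s ∈ ((F ⊔ Z : Subgroup D) : Set D) := hsup hs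
      rw [Subgroup.mul_normal F Z] at h1
      exact Set.mem_mul.mp h1
    have hwc : ∀ u ∈ (U : Subgroup D), w * u = u * w := fun u hu => (Subgroup.mem_centralizer_iff.mp hw.2 u hu).symm
    have hzc : ∀ u ∈ (U : Subgroup D), z * u = u * z := fun u hu => (Subgroup.mem_centralizer_iff.mp hz.2 u hu).symm
    have e : f * w * (c * z) * (f * w)⁻¹ = f * c * f⁻¹ * z := by
      calc f * w * (c * z) * (f * w)⁻¹ = f * (w * (c * z) * w⁻¹) * f⁻¹ := by group
        _ = f * (c * z) * f⁻¹ := by rw [hwc _ (mul_mem hcF.1 hz.1), mul_inv_cancel_right]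
        _ = f * c * (z * f⁻¹) := by group
        _ = f * c * f⁻¹ * z := by rw [hzc _ (inv_mem hf.1), ← mul_assoc]
    rw [e] at hsz
    have h1 := mul_mem (inv_mem (mul_mem (mul_mem hf hcF) (inv_mem hf))) hsz
    rwa [inv_mul_cancel_left] at h1
  intro x hx
  rw [Subgroup.mem_centralizer_iff]
  intro u hu
  exact (Subgroup.mem_centralizer_iff.mp ((hsup.trans (sup_le le_rfl hZF)) hu).2 x hx).symm

/-- Two elements of an abelian normal `q`-subgroup cannot have classes of coprime prime-power sizes when every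
class in it has prime-power size. -/
theorem no_coprime_classes {U : Subgroup D} [U.Normal] (hUp : IsPGroup q U) (hc : ∀ u ∈ U, ∀ v ∈ U, Commute u v)
    (hpow : ∀ u ∈ U, ∃ (t c : ℕ), t.Prime ∧ cidx u = t ^ c) {x y : D} (hx : x ∈ U) (hy : y ∈ U) {r s a b : ℕ}
    (hr : r.Prime) (hs : s.Prime) (hrs : r ≠ s) (hrq : r ≠ q) (hsq : s ≠ q) (hcx : cidx x = r ^ a)
    (hcy : cidx y = s ^ b) (ha : a ≠ 0) (hb : b ≠ 0) : False := by
  obtain ⟨t, c, ht, hcz⟩ := hpow (x * y) (mul_mem hx hy)
  wlog hts : t ≠ s generalizing x y r s a b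
  · refine this hy hx hs hr hrs.symm hsq hrq hcy hcx hb ha (by rwa [(hc y hy x hx).eq]) ?_
    push Not at hts
    exact hts ▸ hrs.symm
  set Cx := Subgroup.centralizer ({x} : Set D) with hCx
  set Cy := Subgroup.centralizer ({y} : Set D) with hCy
  set Cz := Subgroup.centralizer ({x * y} : Set D) with hCz
  have hcop : (r ^ a).Coprime (s ^ b) := Nat.Coprime.pow _ _ ((Nat.coprime_primes hr hs).mpr hrs)
  have hfac : ∀ g, ∃ d ∈ Cy, d⁻¹ * g ∈ Cx := exists_mem_of_coprime_index (H := Cy) (K := Cx)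
    (show (cidx y).Coprime (cidx x) by rw [hcy, hcx]; exact hcop.symm)
  have hfac' : ∀ g, ∃ d ∈ Cy, d⁻¹ * g ∈ Cz := exists_mem_of_coprime_index (H := Cy) (K := Cz)
    (show (cidx y).Coprime (cidx (x * y)) by
      rw [hcy, hcz]
      exact Nat.Coprime.pow _ _ ((Nat.coprime_primes hs ht).mpr (Ne.symm hts)))
  haveI : Fintype D := Fintype.ofFinite D
  let X : Finset D := Finset.univ.image fun g => g * x * g⁻¹
  have hXU : ∀ u ∈ X, u ∈ U := fun u hu => by
    obtain ⟨g, -, rfl⟩ := Finset.mem_image.mp hu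
    exact Subgroup.Normal.conj_mem inferInstance x hx g
  have hcard : X.card = r ^ a := by
    rw [← hcx]
    show X.card = Cx.index
    rw [Subgroup.index_eq_card, ← Nat.card_eq_finsetCard]
    refine (Nat.card_eq_of_bijective (fun g : D ⧸ Cx => (⟨Quotient.liftOn' g (fun g => g * x * g⁻¹) ?_, ?_⟩ : X)) ?_).symm
    · intro g g' hgg
      rw [QuotientGroup.leftRel_apply, hCx, Subgroup.mem_centralizer_singleton_iff] at hgg
      calc g * x * g⁻¹ = g * (x * (g⁻¹ * g')) * g'⁻¹ := by group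
        _ = g * (g⁻¹ * g' * x) * g'⁻¹ := by rw [hgg]
        _ = g' * x * g'⁻¹ := by group
    · induction g using Quotient.inductionOn'
      exact Finset.mem_image.mpr ⟨_, Finset.mem_univ _, rfl⟩
    · constructor
      · rintro g g'
        induction g using Quotient.inductionOn' with | _ g =>
        induction g' using Quotient.inductionOn' with | _ g' =>
        intro h
        have h1 : g * x * g⁻¹ = g' * x * g'⁻¹ := congrArg Subtype.val h
        refine Quotient.sound' ?_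
        rw [QuotientGroup.leftRel_apply, hCx, Subgroup.mem_centralizer_singleton_iff]
        calc g⁻¹ * g' * x = g⁻¹ * (g' * x * g'⁻¹) * g' := by group
          _ = g⁻¹ * (g * x * g⁻¹) * g' := by rw [h1]
          _ = x * (g⁻¹ * g') := by group
      · rintro ⟨u, hu⟩
        obtain ⟨g, -, rfl⟩ := Finset.mem_image.mp hu
        exact ⟨QuotientGroup.mk g, rfl⟩
  -- conjugation permutes the translates
  have hmove : ∀ (g : D), ∀ u ∈ X, (g * (u * y) * g⁻¹) * y⁻¹ ∈ X := by
    intro g u hu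
    obtain ⟨g₀, -, rfl⟩ := Finset.mem_image.mp hu
    obtain ⟨d₀, hd₀, hd₀x⟩ := hfac g₀
    obtain ⟨d, hd, hdz⟩ := hfac' (g * d₀)
    rw [hCy, Subgroup.mem_centralizer_singleton_iff] at hd hd₀
    refine Finset.mem_image.mpr ⟨d, Finset.mem_univ _, ?_⟩
    rw [Transfer.Kazarin.conj_eq_of_mem_centralizer hd₀x,
      show g * (d₀ * x * d₀⁻¹ * y) * g⁻¹ = (g * d₀) * (x * y) * (g * d₀)⁻¹ by
        calc g * (d₀ * x * d₀⁻¹ * y) * g⁻¹ = g * (d₀ * x * (d₀⁻¹ * (y * d₀)) * d₀⁻¹) * g⁻¹ := by group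
          _ = g * (d₀ * x * (d₀⁻¹ * (d₀ * y)) * d₀⁻¹) * g⁻¹ := by rw [hd₀]
          _ = (g * d₀) * (x * y) * (g * d₀)⁻¹ := by group,
      Transfer.Kazarin.conj_eq_of_mem_centralizer hdz]
    calc d * x * d⁻¹ = d * (x * y) * d⁻¹ * (d * y⁻¹ * d⁻¹) := by group
      _ = d * (x * y) * d⁻¹ * y⁻¹ := by
        rw [show d * y⁻¹ * d⁻¹ = (d * y * d⁻¹)⁻¹ by group, hd, mul_inv_cancel_right]
  letI : CommGroup U := { (inferInstance : Group U) with mul_comm := fun u v => Subtype.ext (hc u u.2 v v.2).eq }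
  let X' : Finset U := X.subtype (· ∈ U)
  have hmemX' : ∀ u : U, u ∈ X' ↔ (u : D) ∈ X := fun u => Finset.mem_subtype
  have hcard' : X'.card = r ^ a := by
    rw [← hcard, Finset.card_subtype, Finset.filter_true_of_mem hXU]
  set y' : U := ⟨y, hy⟩ with hy'
  set N := r ^ a with hN
  have hfix : ∀ g : D, MulAut.conjNormal g (y' ^ N) = y' ^ N := by
    intro g
    set f := MulAut.conjNormal (H := U) g with hf
    have hfX : ∀ u ∈ X', f u ∈ X' := by
      intro u hu
      obtain ⟨g₀, -, hg₀⟩ := Finset.mem_image.mp ((hmemX' u).mp hu)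
      rw [hmemX', hf, MulAut.conjNormal_apply]
      exact Finset.mem_image.mpr ⟨g * g₀, Finset.mem_univ _, by rw [← hg₀]; group⟩
    have hfprod : ∏ u ∈ X', f u = ∏ u ∈ X', u :=
      Finset.prod_bij (fun u _ => f u) hfX (fun u _ v _ h => f.injective h) (fun v hv => by
        obtain ⟨w, hw, hwv⟩ := Finset.surj_on_of_inj_on_of_card_le (fun u _ => f u) hfX
          (fun u v _ _ h => f.injective h) le_rfl v hv
        exact ⟨w, hw, hwv.symm⟩) (fun _ _ => rfl)
    have hm : ∀ u ∈ X', f u * f y' * y'⁻¹ ∈ X' := by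
      intro u hu
      have h1 := hmove g u ((hmemX' u).mp hu)
      rw [hmemX', ← map_mul, hf]
      simpa [MulAut.conjNormal_apply] using h1
    have hinj : ∀ u ∈ X', ∀ v ∈ X', f u * f y' * y'⁻¹ = f v * f y' * y'⁻¹ → u = v := fun u _ v _ h =>
      f.injective (mul_right_cancel (mul_right_cancel h))
    have hprod : ∏ u ∈ X', (f u * f y' * y'⁻¹) = ∏ u ∈ X', u :=
      Finset.prod_bij (fun u _ => f u * f y' * y'⁻¹) hm (fun u hu v hv h => hinj u hu v hv h) (fun v hv => by
        obtain ⟨w, hw, hwv⟩ := Finset.surj_on_of_inj_on_of_card_le (fun u _ => f u * f y' * y'⁻¹) hm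
          (fun u v hu hv h => hinj u hu v hv h) le_rfl v hv
        exact ⟨w, hw, hwv.symm⟩) (fun _ _ => rfl)
    rw [Finset.prod_mul_distrib, Finset.prod_mul_distrib, hfprod, Finset.prod_const, Finset.prod_const, hcard',
      inv_pow, mul_assoc, mul_eq_left, mul_inv_eq_one] at hprod
    rw [map_pow, hN, hprod]
  -- so `y` is central
  obtain ⟨k, hk⟩ := hUp y'
  have hNcop : N.Coprime (q ^ k) := Nat.Coprime.pow _ _ ((Nat.coprime_primes hr hq.out).mpr hrq)
  have hy1 : cidx y = 1 := by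
    rw [cidx_eq_one_iff]
    intro g
    have h1 : MulAut.conjNormal g y' = y' := by
      obtain ⟨m, hm⟩ : ∃ m, (y' ^ N) ^ m = y' := by
        refine exists_pow_eq_self_of_coprime ?_
        exact hNcop.coprime_dvd_right (orderOf_dvd_of_pow_eq_one hk)
      rw [← hm, map_pow, hfix g]
    have h2 := congrArg Subtype.val h1
    rw [MulAut.conjNormal_apply] at h2
    exact mul_inv_eq_iff_eq_mul.mp h2
  rw [hcy] at hy1
  exact hb ((Nat.pow_eq_one.mp hy1).resolve_left hs.ne_one)

end Cfsg.Agent.QBaer
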