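import Cfsg.Agent.Lib.Transfer.QBaer.Image
import Cfsg.Agent.Lib.Transfer.PrimePowOrbit.Main
import Cfsg.Agent.S4126

/-!
Groups all of whose elements of `q`-power order have classes of prime-power size.
-/

set_option autoImplicit false
set_option linter.unusedSectionVars false
set_option linter.style.haveILetI false

open scoped Classical Pointwise

namespace Cfsg.Agent.QBaer

open Cfsg

/-- The hypothesis. -/
def IsQBaer (q : ℕ) (G : Type*) [Group G] : Prop :=
  ∀ x : G, (∃ k : ℕ, orderOf x = q ^ k) → ∃ (r : ℕ) (a : ℕ), r.Prime ∧ (Subgroup.centralizer ({x} : Set G)).index = r ^ a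

variable {G : Type*} [Group G] [Finite G] {q : ℕ} [hq : Fact q.Prime]

theorem exists_order_pow (Q : Sylow q G) {x : G} (hx : x ∈ (Q : Subgroup G)) : ∃ k, orderOf x = q ^ k := by
  obtain ⟨k, hk⟩ := Q.isPGroup' ⟨x, hx⟩
  have hk' : x ^ q ^ k = 1 := congrArg Subtype.val hk
  obtain ⟨j, -, hj⟩ := (Nat.dvd_prime_pow hq.out).mp (orderOf_dvd_of_pow_eq_one hk')
  exact ⟨j, hj⟩

theorem exists_conj_mem (Q : Sylow q G) {x : G} (hx : ∃ k, orderOf x = q ^ k) : ∃ g, g * x * g⁻¹ ∈ (Q : Subgroup G) := by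
  obtain ⟨k, hk⟩ := hx
  have hp : IsPGroup q (Subgroup.zpowers x) := IsPGroup.of_card (n := k) (by rw [Nat.card_zpowers, hk])
  obtain ⟨S, hS⟩ := hp.exists_le_sylow
  obtain ⟨g, hg⟩ := MulAction.exists_smul_eq G S Q
  refine ⟨g, ?_⟩
  rw [← hg, Sylow.coe_subgroup_smul]
  exact Subgroup.smul_mem_pointwise_smul x (MulAut.conj g) _ (hS (Subgroup.mem_zpowers x))

section

variable (G q)

/-- The quotient by the `q'`-core. -/
instance pPrimeCoreNormal : (pPrimeCore q G).Normal := Grp.pPrimeCore_isNormal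

end

theorem pPrimeCore_quot_bot : pPrimeCore q (G ⧸ pPrimeCore q G) = ⊥ := by
  set R := pPrimeCore q G with hR
  haveI : (pPrimeCore q (G ⧸ R)).Normal := Grp.pPrimeCore_isNormal
  set M := (pPrimeCore q (G ⧸ R)).comap (QuotientGroup.mk' R) with hM
  have hcard : Nat.card M = Nat.card R * Nat.card (pPrimeCore q (G ⧸ R)) := by
    refine Nat.eq_of_mul_eq_mul_right (Nat.pos_of_ne_zero (Subgroup.index_ne_zero_of_finite (H := M))) ?_
    rw [M.card_mul_index, mul_assoc, hM, Subgroup.index_comap_of_surjective _ (QuotientGroup.mk'_surjective R),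
      Subgroup.card_mul_index, R.card_eq_card_quotient_mul_card_subgroup, mul_comm]
  have hle : M ≤ R := Grp.le_pPrimeCore inferInstance (by
    rw [hcard]; exact Nat.Coprime.mul_left Grp.pPrimeCore_coprime Grp.pPrimeCore_coprime)
  rw [eq_bot_iff]
  intro d hd
  obtain ⟨g, rfl⟩ := QuotientGroup.mk'_surjective R d
  rw [Subgroup.mem_bot, QuotientGroup.mk'_apply, QuotientGroup.eq_one_iff]
  exact hle hd

theorem pCore_quot_bot {r : ℕ} (hr : r.Prime) (hrq : r ≠ q) : pCore r (G ⧸ pPrimeCore q G) = ⊥ := by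
  haveI := Fact.mk hr
  have h := Grp.le_pPrimeCore (p := q) (G := G ⧸ pPrimeCore q G) Grp.pCore_isNormal (N := pCore r (G ⧸ pPrimeCore q G)) (by
    obtain ⟨k, hk⟩ := (Grp.pCore_isPGroup (p := r) (G := G ⧸ pPrimeCore q G)).exists_card_eq
    rw [hk]
    exact Nat.Coprime.pow_left k ((Nat.coprime_primes hr hq.out).mpr hrq))
  rw [pPrimeCore_quot_bot] at h
  exact le_bot_iff.mp h

theorem pCore_quot_self_bot : pCore q (G ⧸ pCore q G) = ⊥ := by
  haveI : (pCore q G).Normal := Grp.pCore_isNormal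
  haveI : (pCore q (G ⧸ pCore q G)).Normal := Grp.pCore_isNormal
  set N := pCore q G with hN
  set M := (pCore q (G ⧸ N)).comap (QuotientGroup.mk' N) with hM
  have hMp : IsPGroup q M := Grp.pCore_isPGroup.comap_of_ker_isPGroup (QuotientGroup.mk' N) (by
    rw [QuotientGroup.ker_mk']; exact Grp.pCore_isPGroup)
  have hle : M ≤ N := Grp.le_pCore inferInstance hMp
  rw [eq_bot_iff]
  intro d hd
  obtain ⟨g, rfl⟩ := QuotientGroup.mk'_surjective N d
  rw [Subgroup.mem_bot, QuotientGroup.mk'_apply, QuotientGroup.eq_one_iff]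
  exact hle hd

theorem mk_mem_pCore (hB : IsQBaer q G) {x : G} (hx : ∃ k, orderOf x = q ^ k) :
    (x : G ⧸ pPrimeCore q G) ∈ pCore q (G ⧸ pPrimeCore q G) := by
  obtain ⟨r, a, hr, ha⟩ := hB x hx
  replace ha : cidx x = r ^ a := ha
  haveI := Fact.mk hr
  set D := G ⧸ pPrimeCore q G with hD
  obtain ⟨b, -, hb⟩ := (Nat.dvd_prime_pow hr).mp
    (ha ▸ cidx_map_dvd (QuotientGroup.mk' (pPrimeCore q G)) (QuotientGroup.mk'_surjective _) x)
  by_cases hrq : r = q
  · subst hrq
    haveI : (pCore r D).Normal := Grp.pCore_isNormal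
    obtain ⟨c, -, hc⟩ := (Nat.dvd_prime_pow hr).mp
      (hb ▸ cidx_map_dvd (QuotientGroup.mk' (pCore r D)) (QuotientGroup.mk'_surjective _) ((x : D)))
    set y := ((x : D) : D ⧸ pCore r D) with hy
    have hyF : y ∈ fittingSubgroup (D ⧸ pCore r D) := Transfer.Kazarin.mem_fitting pCore_quot_self_bot (a := c) hc
    have hnd := not_dvd_fitting (G := D ⧸ pCore r D) (p := r) pCore_quot_self_bot
    obtain ⟨k, hk⟩ := hx
    have hyk : y ^ r ^ k = 1 := by
      rw [hy, ← QuotientGroup.mk_pow, ← QuotientGroup.mk_pow, ← hk, pow_orderOf_eq_one]; rfl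
    have hy1 : y = 1 := by
      rw [← orderOf_eq_one_iff]
      exact Nat.eq_one_of_dvd_coprimes ((hr.coprime_iff_not_dvd.mpr hnd).pow_left k)
        (orderOf_dvd_of_pow_eq_one hyk) (Subgroup.orderOf_dvd_natCard _ hyF)
    exact (QuotientGroup.eq_one_iff _).mp hy1
  · exact fitting_le_pCore (fun s hs hsq => pCore_quot_bot hs hsq)
      (Transfer.Kazarin.mem_fitting (pCore_quot_bot hr hrq) (a := b) hb)

variable (Q : Sylow q G)

theorem map_sylow (hB : IsQBaer q G) :
    (Q : Subgroup G).map (QuotientGroup.mk' (pPrimeCore q G)) = pCore q (G ⧸ pPrimeCore q G) := by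
  refine le_antisymm ?_ ?_
  · rintro _ ⟨x, hx, rfl⟩
    exact mk_mem_pCore hB (exists_order_pow Q hx)
  · have := Grp.pCore_le_sylow (Q.mapSurjective (QuotientGroup.mk'_surjective (pPrimeCore q G)))
    rwa [Sylow.coe_mapSurjective] at this

theorem eq_one_of_mem_core {x : G} (hx : x ∈ (Q : Subgroup G)) (hxR : x ∈ pPrimeCore q G) : x = 1 := by
  obtain ⟨k, hk⟩ := exists_order_pow Q hx
  rw [← orderOf_eq_one_iff]
  refine Nat.eq_one_of_dvd_coprimes (a := q ^ k) ?_ (dvd_of_eq hk) (Subgroup.orderOf_dvd_natCard _ hxR)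
  exact (Grp.pPrimeCore_coprime (p := q) (G := G)).symm.pow_left k

/-- Elements of the Sylow subgroup commuting modulo the core commute. -/
theorem commute_of_mk {x y : G} (hx : x ∈ (Q : Subgroup G)) (hy : y ∈ (Q : Subgroup G))
    (h : Commute (x : G ⧸ pPrimeCore q G) y) : Commute x y := by
  have hmem : x * y * x⁻¹ * y⁻¹ ∈ (Q : Subgroup G) := mul_mem (mul_mem (mul_mem hx hy) (inv_mem hx)) (inv_mem hy)
  have hR : x * y * x⁻¹ * y⁻¹ ∈ pPrimeCore q G := by
    rw [← QuotientGroup.eq_one_iff]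
    simp only [QuotientGroup.mk_mul, QuotientGroup.mk_inv]
    rw [h.eq, mul_inv_cancel_right, mul_inv_cancel]
  have h1 := eq_one_of_mem_core Q hmem hR
  rw [mul_inv_eq_one, mul_inv_eq_iff_eq_mul] at h1
  exact h1

/-- An element of the Sylow subgroup with class of order prime to `q` is central there. -/
theorem central_of_index (hB : IsQBaer q G) {x : G} (hx : x ∈ (Q : Subgroup G)) (hidx : ¬ q ∣ cidx x) :
    ∀ y ∈ (Q : Subgroup G), Commute x y := by
  intro y hy
  refine commute_of_mk Q hx hy ?_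
  have hdvd := cidx_map_dvd (QuotientGroup.mk' (pPrimeCore q G)) (QuotientGroup.mk'_surjective _) x
  have hle : pCore q (G ⧸ pPrimeCore q G) ≤ Subgroup.centralizer ({(x : G ⧸ pPrimeCore q G)} : Set _) := by
    haveI : (pCore q (G ⧸ pPrimeCore q G)).Normal := Grp.pCore_isNormal
    refine Subgroup.relIndex_eq_one.mp (Nat.eq_one_of_dvd_coprimes ?_
      ((relIndex_centralizer_dvd _ _).trans hdvd) (Subgroup.index_dvd_card _))
    obtain ⟨k, hk⟩ := (Grp.pCore_isPGroup (p := q) (G := G ⧸ pPrimeCore q G)).exists_card_eq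
    rw [hk]
    exact (hq.out.coprime_iff_not_dvd.mpr hidx).symm.pow_right k
  exact (Subgroup.mem_centralizer_singleton_iff.mp (hle (mk_mem_pCore hB (exists_order_pow Q hy)))).symm

/-- In the nonabelian case every class in the Sylow subgroup has `q`-power size. -/
theorem pow_of_not_comm (hB : IsQBaer q G) (hQ : ∃ u ∈ (Q : Subgroup G), ∃ v ∈ (Q : Subgroup G), ¬ Commute u v) :
    ∀ x ∈ (Q : Subgroup G), ∃ b, cidx x = q ^ b := by
  set R := pPrimeCore q G with hR
  have hnc : ∀ y ∈ (Q : Subgroup G), (∃ v ∈ (Q : Subgroup G), ¬ Commute y v) →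
      (∃ b, cidx y = q ^ b) ∧ R ≤ Subgroup.centralizer ({y} : Set G) := by
    rintro y hy ⟨v, hv, hyv⟩
    obtain ⟨r, a, hr, ha⟩ := hB y (exists_order_pow Q hy)
    replace ha : cidx y = r ^ a := ha
    have hrq : r = q := by
      by_contra hrq
      exact hyv (central_of_index Q hB hy (fun hd => hrq
        ((Nat.prime_dvd_prime_iff_eq hq.out hr).mp (hq.out.dvd_of_dvd_pow (ha ▸ hd))).symm) v hv)
    subst hrq
    refine ⟨⟨a, ha⟩, Subgroup.relIndex_eq_one.mp (Nat.eq_one_of_dvd_coprimes ?_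
      (relIndex_centralizer_dvd y R) (Subgroup.index_dvd_card _))⟩
    rw [show cidx y = r ^ a from ha]
    exact (Grp.pPrimeCore_coprime (p := r) (G := G)).symm.pow_left a
  have hall : ∀ x ∈ (Q : Subgroup G), R ≤ Subgroup.centralizer ({x} : Set G) := by
    intro x hx
    by_cases hxc : ∃ v ∈ (Q : Subgroup G), ¬ Commute x v
    · exact (hnc x hx hxc).2
    push Not at hxc
    obtain ⟨u, hu, v, hv, huv⟩ := hQ
    have hxu : ∃ w ∈ (Q : Subgroup G), ¬ Commute (x * u) w := ⟨v, hv, fun hc => huv (by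
      have h1 := (hxc v hv).inv_left.mul_left hc
      rwa [inv_mul_cancel_left] at h1)⟩
    intro ρ hρ
    have h1 : ρ * (x * u) = (x * u) * ρ := Subgroup.mem_centralizer_singleton_iff.mp ((hnc _ (mul_mem hx hu) hxu).2 hρ)
    have h2 : ρ * u = u * ρ := Subgroup.mem_centralizer_singleton_iff.mp ((hnc u hu ⟨v, hv, huv⟩).2 hρ)
    refine Subgroup.mem_centralizer_singleton_iff.mpr ?_
    have h3 : (show G from ρ) * x * u = x * ρ * u := by rw [mul_assoc, h1, mul_assoc, ← h2, ← mul_assoc]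
    exact mul_right_cancel h3
  set D := G ⧸ R with hD
  let U : Sylow q D := Q.mapSurjective (QuotientGroup.mk'_surjective R)
  have hUeq : (U : Subgroup D) = pCore q D := (Sylow.coe_mapSurjective _ Q).trans (map_sylow Q hB)
  haveI : (U : Subgroup D).Normal := by rw [hUeq]; exact Grp.pCore_isNormal
  have hUmem : ∀ d ∈ (U : Subgroup D), ∃ y ∈ (Q : Subgroup G), (y : D) = d := by
    intro d hd
    rw [Sylow.coe_mapSurjective] at hd
    exact hd
  have hmemU : ∀ y ∈ (Q : Subgroup G), (y : D) ∈ (U : Subgroup D) := fun y hy => by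
    rw [Sylow.coe_mapSurjective]; exact ⟨y, hy, rfl⟩
  obtain ⟨k, hk⟩ := centralizer_index_pow U (by
    obtain ⟨u, hu, v, hv, huv⟩ := hQ
    exact ⟨_, hmemU u hu, _, hmemU v hv, fun h => huv (commute_of_mk Q hu hv h)⟩) (by
    rintro d hd ⟨w, hw, hdw⟩
    obtain ⟨y, hy, rfl⟩ := hUmem d hd
    obtain ⟨v, hv, rfl⟩ := hUmem w hw
    obtain ⟨b, hb⟩ := (hnc y hy ⟨v, hv, fun h => hdw (h.map (QuotientGroup.mk' R))⟩).1
    obtain ⟨j, -, hj⟩ := (Nat.dvd_prime_pow hq.out).mp
      (hb ▸ cidx_map_dvd (QuotientGroup.mk' R) (QuotientGroup.mk'_surjective R) y)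
    exact ⟨j, hj⟩)
  intro x hx
  rw [← cidx_quot_eq (R := R) (exists_order_pow Q hx) (hall x hx) Grp.pPrimeCore_coprime]
  have hdvd : cidx (x : D) ∣ q ^ k := hk ▸ Subgroup.index_dvd_of_le (Subgroup.centralizer_le
    (Set.singleton_subset_iff.mpr (hmemU x hx)))
  obtain ⟨j, -, hj⟩ := (Nat.dvd_prime_pow hq.out).mp hdvd
  exact ⟨j, hj⟩

/-- In the abelian case the classes share one prime. -/
theorem one_prime (hB : IsQBaer q G) (hQ : ∀ u ∈ (Q : Subgroup G), ∀ v ∈ (Q : Subgroup G), Commute u v) {x y : G}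
    (hx : x ∈ (Q : Subgroup G)) (hy : y ∈ (Q : Subgroup G)) {r s a b : ℕ} (hr : r.Prime) (hs : s.Prime)
    (hcx : cidx x = r ^ a) (hcy : cidx y = s ^ b) (ha : a ≠ 0) (hb : b ≠ 0) : r = s := by
  by_contra hrs
  have hnq : ∀ z ∈ (Q : Subgroup G), ¬ q ∣ cidx z := fun z hz hd => Q.not_dvd_index (hd.trans
    (Subgroup.index_dvd_of_le fun w hw => Subgroup.mem_centralizer_singleton_iff.mpr (hQ w hw z hz).eq))
  have hrq : r ≠ q := fun h => hnq x hx (hcx ▸ h ▸ dvd_pow_self r ha)
  have hsq : s ≠ q := fun h => hnq y hy (hcy ▸ h ▸ dvd_pow_self s hb)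
  set R := pPrimeCore q G with hR
  set D := G ⧸ R with hD
  haveI : (pCore q D).Normal := Grp.pCore_isNormal
  have hmemU : ∀ z ∈ (Q : Subgroup G), (z : D) ∈ pCore q D := fun z hz => mk_mem_pCore hB (exists_order_pow Q hz)
  have hsurjU : ∀ d ∈ pCore q D, ∃ z ∈ (Q : Subgroup G), (z : D) = d := fun d hd => by
    rw [← map_sylow Q hB] at hd
    exact hd
  have hxy := mul_mem hx hy
  obtain ⟨t, c, ht, hcz⟩ := hB (x * y) (exists_order_pow Q hxy)
  -- a nontrivial class modulo `R` or a moved element of `R`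
  have hab : ∀ z ∈ (Q : Subgroup G), ∀ (u e : ℕ), cidx z = u ^ e → e ≠ 0 → u.Prime →
      cidx (z : D) = 1 → ¬ R ≤ Subgroup.centralizer ({z} : Set G) := by
    intro z hz u e hcz he hu h1 hR'
    rw [cidx_quot_eq (exists_order_pow Q hz) hR' Grp.pPrimeCore_coprime, hcz] at h1
    exact he ((Nat.pow_eq_one.mp h1).resolve_left hu.ne_one)
  -- the mixed case
  have mixed : ∀ (x' y' : G), x' ∈ (Q : Subgroup G) → y' ∈ (Q : Subgroup G) → ∀ (r' s' a' b' : ℕ), r'.Prime → s'.Prime →
      r' ≠ s' → cidx x' = r' ^ a' → cidx y' = s' ^ b' → cidx (x' : D) ≠ 1 → cidx (y' : D) = 1 →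
      R ≤ Subgroup.centralizer ({x'} : Set G) → ¬ R ≤ Subgroup.centralizer ({y'} : Set G) → False := by
    intro x' y' hx' hy' r' s' a' b' hr' hs' hne hcx' hcy' hA hA' hBx hBy
    obtain ⟨t', c', ht', hcz'⟩ := hB (x' * y') (exists_order_pow Q (mul_mem hx' hy'))
    replace hcz' : cidx (x' * y') = t' ^ c' := hcz'
    have hrd : r' ∣ cidx (x' * y') := by
      have h1 : cidx ((x' * y' : G) : D) = cidx (x' : D) := by
        have hyc := cidx_eq_one_iff.mp hA'
        have : Subgroup.centralizer ({((x' * y' : G) : D)} : Set D) = Subgroup.centralizer ({(x' : D)} : Set D) := by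
          ext g
          rw [Subgroup.mem_centralizer_singleton_iff, Subgroup.mem_centralizer_singleton_iff, QuotientGroup.mk_mul,
            ← mul_assoc, mul_assoc (x' : D), ← (hyc g).eq, ← mul_assoc, mul_right_cancel_iff]
        rw [cidx, cidx, this]
      have h2 : cidx (x' : D) ∣ r' ^ a' := hcx' ▸ cidx_map_dvd (QuotientGroup.mk' R) (QuotientGroup.mk'_surjective R) x'
      obtain ⟨j, -, hj⟩ := (Nat.dvd_prime_pow hr').mp h2
      have hj0 : j ≠ 0 := fun h0 => hA (by rw [hj, h0, pow_zero])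
      exact (h1 ▸ hj ▸ dvd_pow_self r' hj0 : r' ∣ cidx ((x' * y' : G) : D)).trans
        (cidx_map_dvd (QuotientGroup.mk' R) (QuotientGroup.mk'_surjective R) _)
    have hsd : s' ∣ cidx (x' * y') := by
      have h1 : (Subgroup.centralizer ({x' * y'} : Set G)).relIndex R = (Subgroup.centralizer ({y'} : Set G)).relIndex R := by
        rw [← Subgroup.inf_relIndex_right, ← Subgroup.inf_relIndex_right (Subgroup.centralizer ({y'} : Set G))]
        congr 1
        ext ρ
        simp only [Subgroup.mem_inf, Subgroup.mem_centralizer_singleton_iff]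
        refine and_congr_left fun hρ => ?_
        rw [← mul_assoc, Subgroup.mem_centralizer_singleton_iff.mp (hBx hρ), mul_assoc, mul_assoc, mul_left_cancel_iff]
      obtain ⟨j, -, hj⟩ := (Nat.dvd_prime_pow hs').mp (hcy' ▸ relIndex_centralizer_dvd y' R)
      have hj0 : j ≠ 0 := fun h0 => hBy (Subgroup.relIndex_eq_one.mp (by rw [hj, h0, pow_zero]))
      exact (h1 ▸ hj ▸ dvd_pow_self s' hj0 : s' ∣ _).trans (relIndex_centralizer_dvd _ R)
    rw [hcz'] at hrd hsd
    exact hne (((Nat.prime_dvd_prime_iff_eq hr' ht').mp (hr'.dvd_of_dvd_pow hrd)).trans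
      ((Nat.prime_dvd_prime_iff_eq hs' ht').mp (hs'.dvd_of_dvd_pow hsd)).symm)
  by_cases hB2 : ¬ R ≤ Subgroup.centralizer ({x} : Set G) ∧ ¬ R ≤ Subgroup.centralizer ({y} : Set G)
  · -- both move the core
    obtain ⟨hBx, hBy⟩ := hB2
    have hnorm : (Q : Subgroup G) ≤ Subgroup.normalizer (R : Set G) := by
      rw [Subgroup.normalizer_eq_top]; exact le_top
    obtain ⟨n, hn⟩ := Q.isPGroup'.exists_card_eq
    have hcop : (Nat.card (Q : Subgroup G)).Coprime (Nat.card R) := by
      rw [hn]; exact (Grp.pPrimeCore_coprime (p := q) (G := G)).symm.pow_left n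
    haveI := Q.isPGroup'.isNilpotent
    have hsolQ : Group.IsSolvable (Q : Subgroup G) := inferInstance
    -- an element moving the core has its class prime at a moved invariant Sylow subgroup
    have key : ∀ z ∈ (Q : Subgroup G), ∀ (u e : ℕ), u.Prime → cidx z = u ^ e →
        ∀ (l : ℕ), l.Prime → l ≠ u → ∀ T, Grp.IsSylowIn l T R → (Q : Subgroup G) ≤ Subgroup.normalizer (T : Set G) →
          T ≤ Subgroup.centralizer ({z} : Set G) := fun z hz u e hu hcz l hl hlu T hT hTQ => by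
      haveI := Fact.mk hl
      exact centralizes_sylow hu hlu (q := q) Grp.pPrimeCore_coprime (exists_order_pow Q hz) hcz hT (hTQ hz)
    haveI := Fact.mk hr
    haveI := Fact.mk hs
    obtain ⟨Tr, hTr, hTrQ⟩ := Grp.exists_invariant_sylow (Q : Subgroup G) R hnorm hcop (Or.inl hsolQ) r
    obtain ⟨Ts, hTs, hTsQ⟩ := Grp.exists_invariant_sylow (Q : Subgroup G) R hnorm hcop (Or.inl hsolQ) s
    have moved : ∀ z ∈ (Q : Subgroup G), ∀ (u e : ℕ), u.Prime → cidx z = u ^ e →
        ¬ R ≤ Subgroup.centralizer ({z} : Set G) → ∀ T, Grp.IsSylowIn u T R →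
        ¬ T ≤ Subgroup.centralizer ({z} : Set G) := by
      intro z hz u e hu hcz hBz T hT hTC
      apply hBz
      refine le_trans (Grp.le_of_forall_sylow (H := Subgroup.centralizer ({z} : Set G) ⊓ R) inf_le_right fun l hl => ?_)
        inf_le_left
      by_cases hlu : l = u
      · subst hlu
        exact ⟨T, hT, le_inf hTC hT.1⟩
      · obtain ⟨T', hT', hT'Q⟩ := Grp.exists_invariant_sylow (Q : Subgroup G) R hnorm hcop (Or.inl hsolQ) l
        exact ⟨T', hT', le_inf (key z hz u e hu hcz l hl.out hlu T' hT' hT'Q) hT'.1⟩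
    replace hcz : cidx (x * y) = t ^ c := hcz
    have htr : t = r := by
      by_contra htr
      refine moved x hx r a hr hcx hBx Tr hTr fun ρ hρ => ?_
      have h1 := Subgroup.mem_centralizer_singleton_iff.mp (key (x * y) hxy t c ht hcz r hr (Ne.symm htr) Tr hTr hTrQ hρ)
      have h2 := Subgroup.mem_centralizer_singleton_iff.mp (key y hy s b hs hcy r hr hrs Tr hTr hTrQ hρ)
      refine Subgroup.mem_centralizer_singleton_iff.mpr (mul_right_cancel (b := y) ?_)
      rw [mul_assoc, h1, mul_assoc, ← h2, ← mul_assoc]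
    have hts : t = s := by
      by_contra hts
      refine moved y hy s b hs hcy hBy Ts hTs fun ρ hρ => ?_
      have h1 := Subgroup.mem_centralizer_singleton_iff.mp (key (x * y) hxy t c ht hcz s hs (Ne.symm hts) Ts hTs hTsQ hρ)
      have h2 := Subgroup.mem_centralizer_singleton_iff.mp (key x hx r a hr hcx s hs (Ne.symm hrs) Ts hTs hTsQ hρ)
      refine Subgroup.mem_centralizer_singleton_iff.mpr (mul_left_cancel (a := x) ?_)
      rw [← mul_assoc, ← h2, mul_assoc, h1, mul_assoc]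
    exact hrs (htr.symm.trans hts)
  by_cases hAx : cidx (x : D) = 1
  · have hBx := hab x hx r a hcx ha hr hAx
    have hBy : R ≤ Subgroup.centralizer ({y} : Set G) := by_contra fun h => hB2 ⟨hBx, h⟩
    have hAy : cidx (y : D) ≠ 1 := fun h => hab y hy s b hcy hb hs h hBy
    exact mixed y x hy hx s r b a hs hr (Ne.symm hrs) hcy hcx hAy hAx hBy hBx
  by_cases hAy : cidx (y : D) = 1
  · have hBy := hab y hy s b hcy hb hs hAy
    have hBx : R ≤ Subgroup.centralizer ({x} : Set G) := by_contra fun h => hB2 ⟨h, hBy⟩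
    exact mixed x y hx hy r s a b hr hs hrs hcx hcy hAx hAy hBx hBy
  · -- both move modulo the core
    obtain ⟨a', -, ha'⟩ := (Nat.dvd_prime_pow hr).mp
      (hcx ▸ cidx_map_dvd (QuotientGroup.mk' R) (QuotientGroup.mk'_surjective R) x)
    obtain ⟨b', -, hb'⟩ := (Nat.dvd_prime_pow hs).mp
      (hcy ▸ cidx_map_dvd (QuotientGroup.mk' R) (QuotientGroup.mk'_surjective R) y)
    refine no_coprime_classes (U := pCore q D) Grp.pCore_isPGroup ?_ ?_ (hmemU x hx) (hmemU y hy) hr hs hrs hrq hsq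
      ha' hb' (fun h0 => hAx (by rw [show (x : D) = QuotientGroup.mk' R x from rfl, ha', h0, pow_zero]))
      (fun h0 => hAy (by rw [show (y : D) = QuotientGroup.mk' R y from rfl, hb', h0, pow_zero]))
    · intro u hu v hv
      obtain ⟨u', hu', rfl⟩ := hsurjU u hu
      obtain ⟨v', hv', rfl⟩ := hsurjU v hv
      exact (hQ u' hu' v' hv').map (QuotientGroup.mk' R)
    · intro d hd
      obtain ⟨z, hz, rfl⟩ := hsurjU d hd
      obtain ⟨u, e, hu, hce⟩ := hB z (exists_order_pow Q hz)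
      replace hce : cidx z = u ^ e := hce
      obtain ⟨j, -, hj⟩ := (Nat.dvd_prime_pow hu).mp
        (hce ▸ cidx_map_dvd (QuotientGroup.mk' R) (QuotientGroup.mk'_surjective R) z)
      exact ⟨u, j, hu, hj⟩

end Cfsg.Agent.QBaer
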